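import Groth.Agent.KFlat.SiteLTensor
import Groth.Agent.KFlat.Shift
import Mathlib.Algebra.Homology.ShortComplex.ExactFunctor
import Mathlib.Algebra.Homology.DerivedCategory.SingleTriangle
import Mathlib.Algebra.Homology.HomologicalComplexAbelian

/-!
# The long exact sequence of `H^p(- ⊗ᴸ E)` on modules over a ringed site
-/

set_option autoImplicit false

universe u

open CategoryTheory CategoryTheory.Limits CategoryTheory.Pretriangulated
open ModSite Groth.Agent.KFlat

attribute [local instance] HasDerivedCategory.standard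

noncomputable section

namespace Groth.Agent.KFlatSite.TorSeq

variable {C : Type u} [SmallCategory C] {J : GrothendieckTopology C} {O : Sheaf J CommRingCat.{u}}
variable (E : CochainComplex (Mod O) ℤ) [ModSite.HasLTensorCx E]

/-- `M ↦ H^p(M ⊗ᴸ E)`. -/
abbrev G (p : ℤ) : Mod O ⥤ Mod O :=
  DerivedCategory.singleFunctor (Mod O) 0 ⋙ ModSite.LTensorCx E ⋙ DerivedCategory.homologyFunctor (Mod O) p

/-- `- ⊗ E` on complexes. -/
abbrev tE : CochainComplex (Mod O) ℤ ⥤ CochainComplex (Mod O) ℤ := (tens O).flip.obj E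

/-- Compute `H^p(M ⊗ᴸ E)` with a K-flat model of `M`. -/
def τ {P : CochainComplex (Mod O) ℤ} (hP : ModSite.IsKFlat P) {M : Mod O}
    (e : DerivedCategory.Q.obj P ≅ (DerivedCategory.singleFunctor (Mod O) 0).obj M) (p : ℤ) :
    (G E p).obj M ≅ ((tE E).obj P).homology p :=
  (DerivedCategory.homologyFunctor (Mod O) p).mapIso
      ((ModSite.LTensorCx E).mapIso e.symm ≪≫ SiteLTensor.toTensorIso E hP) ≪≫
    (DerivedCategory.homologyFunctorFactors (Mod O) p).app ((tE E).obj P)

theorem τ_natural {P P' : CochainComplex (Mod O) ℤ} (hP : ModSite.IsKFlat P) (hP' : ModSite.IsKFlat P')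
    {M M' : Mod O}
    (e : DerivedCategory.Q.obj P ≅ (DerivedCategory.singleFunctor (Mod O) 0).obj M)
    (e' : DerivedCategory.Q.obj P' ≅ (DerivedCategory.singleFunctor (Mod O) 0).obj M')
    (a : P ⟶ P') (h : M ⟶ M')
    (w : e.hom ≫ (DerivedCategory.singleFunctor (Mod O) 0).map h = DerivedCategory.Q.map a ≫ e'.hom)
    (p : ℤ) :
    (G E p).map h ≫ (τ E hP' e' p).hom = (τ E hP e p).hom ≫ HomologicalComplex.homologyMap ((tE E).map a) p := by
  have w' : (DerivedCategory.singleFunctor (Mod O) 0).map h ≫ e'.inv = e.inv ≫ DerivedCategory.Q.map a := by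
    rw [Iso.comp_inv_eq, Category.assoc, ← w, Iso.inv_hom_id_assoc]
  have hn : (ModSite.LTensorCx E).map (DerivedCategory.Q.map a) ≫ (SiteLTensor.toTensorIso E hP').hom =
      (SiteLTensor.toTensorIso E hP).hom ≫ DerivedCategory.Q.map ((tE E).map a) :=
    ((ModSite.tensorCxQ E).totalLeftDerivedCounit DerivedCategory.Q
      (HomologicalComplex.quasiIso (Mod O) (ComplexShape.up ℤ))).naturality a
  have hm : (ModSite.LTensorCx E).map ((DerivedCategory.singleFunctor (Mod O) 0).map h) ≫
        ((ModSite.LTensorCx E).map e'.inv ≫ (SiteLTensor.toTensorIso E hP').hom) =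
      ((ModSite.LTensorCx E).map e.inv ≫ (SiteLTensor.toTensorIso E hP).hom) ≫
        DerivedCategory.Q.map ((tE E).map a) := by
    rw [← Category.assoc, ← Functor.map_comp, w', Functor.map_comp, Category.assoc, hn, Category.assoc]
  have hh := (DerivedCategory.homologyFunctorFactors (Mod O) p).hom.naturality ((tE E).map a)
  change (DerivedCategory.homologyFunctor (Mod O) p).map ((ModSite.LTensorCx E).map
        ((DerivedCategory.singleFunctor (Mod O) 0).map h)) ≫
      ((DerivedCategory.homologyFunctor (Mod O) p).map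
          ((ModSite.LTensorCx E).map e'.inv ≫ (SiteLTensor.toTensorIso E hP').hom) ≫
        (DerivedCategory.homologyFunctorFactors (Mod O) p).hom.app ((tE E).obj P')) =
    ((DerivedCategory.homologyFunctor (Mod O) p).map
          ((ModSite.LTensorCx E).map e.inv ≫ (SiteLTensor.toTensorIso E hP).hom) ≫
        (DerivedCategory.homologyFunctorFactors (Mod O) p).hom.app ((tE E).obj P)) ≫
      HomologicalComplex.homologyMap ((tE E).map a) p
  refine ((Category.assoc _ _ _).symm.trans (congrArg (· ≫ _) ?_)).trans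
    ((Category.assoc _ _ _).trans ((congrArg (_ ≫ ·) hh).trans (Category.assoc _ _ _).symm))
  exact ((DerivedCategory.homologyFunctor (Mod O) p).map_comp _ _).symm.trans
    ((congrArg (DerivedCategory.homologyFunctor (Mod O) p).map hm).trans
      ((DerivedCategory.homologyFunctor (Mod O) p).map_comp _ _))

/-- The chosen K-flat model of a module. -/
abbrev P₀ (M : Mod O) : CochainComplex (Mod O) ℤ :=
  (res O).obj ((CochainComplex.singleFunctor (Mod O) 0).obj M)

/-- It resolves the module. -/
def η (M : Mod O) : DerivedCategory.Q.obj (P₀ M) ≅ (DerivedCategory.singleFunctor (Mod O) 0).obj M :=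
  have : IsIso (DerivedCategory.Q.map ((resπ O).app ((CochainComplex.singleFunctor (Mod O) 0).obj M))) :=
    (DerivedCategory.isIso_Q_map_iff_quasiIso _ _).2 (quasiIso_resπ _)
  @asIso _ _ _ _ (DerivedCategory.Q.map ((resπ O).app ((CochainComplex.singleFunctor (Mod O) 0).obj M))) this

theorem η_natural {M M' : Mod O} (h : M ⟶ M') :
    (η M).hom ≫ (DerivedCategory.singleFunctor (Mod O) 0).map h =
      DerivedCategory.Q.map ((res O).map ((CochainComplex.singleFunctor (Mod O) 0).map h)) ≫ (η M').hom := by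
  change DerivedCategory.Q.map _ ≫ DerivedCategory.Q.map ((CochainComplex.singleFunctor (Mod O) 0).map h) =
    DerivedCategory.Q.map _ ≫ DerivedCategory.Q.map _
  rw [← Functor.map_comp, ← Functor.map_comp, (resπ O).naturality]
  rfl

theorem additive (p : ℤ) : (G E p).Additive where
  map_add {M M'} f g := by
    rw [← cancel_mono (τ E (isKFlat_res _) (η M') p).hom, Preadditive.add_comp]
    rw [τ_natural E (isKFlat_res _) (isKFlat_res _) (η M) (η M') _ f (η_natural f) p,
      τ_natural E (isKFlat_res _) (isKFlat_res _) (η M) (η M') _ g (η_natural g) p,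
      τ_natural E (isKFlat_res _) (isKFlat_res _) (η M) (η M')
        ((res O).map ((CochainComplex.singleFunctor (Mod O) 0).map f) +
          (res O).map ((CochainComplex.singleFunctor (Mod O) 0).map g)) (f + g) ?_ p,
      Functor.map_add, HomologicalComplex.homologyMap_add, Preadditive.comp_add]
    rw [Functor.map_add, Functor.map_add, Preadditive.comp_add, Preadditive.add_comp, η_natural, η_natural]

variable (S : ShortComplex (Mod O))

/-- The cylinder. -/
abbrev cyl : CochainComplex (Mod O) ℤ := P₀ S.X₂ ⊞ CochainComplex.mappingCone (𝟙 (P₀ S.X₁))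

/-- The inclusion in the cylinder. -/
def cf : P₀ S.X₁ ⟶ cyl S :=
  biprod.lift ((res O).map ((CochainComplex.singleFunctor (Mod O) 0).map S.f))
    (CochainComplex.mappingCone.inr (𝟙 (P₀ S.X₁)))

/-- Its degreewise retraction. -/
def cr (n : ℤ) : (cyl S).X n ⟶ (P₀ S.X₁).X n :=
  (biprod.snd : cyl S ⟶ _).f n ≫ (CochainComplex.mappingCone.snd (𝟙 (P₀ S.X₁))).v n n (add_zero n)

theorem cf_cr (n : ℤ) : (cf S).f n ≫ cr S n = 𝟙 _ := by
  rw [cr, ← Category.assoc, ← HomologicalComplex.comp_f, cf, biprod.lift_snd]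
  exact CochainComplex.mappingCone.inr_f_snd_v _ n

instance mono_cf : Mono (cf S) :=
  have : ∀ n, Mono ((cf S).f n) := fun n =>
    mono_of_mono_fac (cf_cr S n)
  HomologicalComplex.mono_of_mono_f _ this

/-- The degreewise split sequence. -/
abbrev cS : ShortComplex (CochainComplex (Mod O) ℤ) :=
  ShortComplex.mk (cf S) (cokernel.π (cf S)) (cokernel.condition _)

/-- Its splittings. -/
def cσ (n : ℤ) : ((cS S).map (HomologicalComplex.eval (Mod O) (ComplexShape.up ℤ) n)).Splitting :=
  let F := HomologicalComplex.eval (Mod O) (ComplexShape.up ℤ) n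
  let h : IsColimit (CokernelCofork.ofπ ((cS S).map F).g ((cS S).map F).zero) :=
    CokernelCofork.mapIsColimit _ (cokernelIsCokernel (cf S)) F
  ShortComplex.Splitting.ofExactOfRetraction _ (ShortComplex.exact_of_g_is_cokernel _ h) (cr S n) (cf_cr S n)
    (Cofork.IsColimit.epi h)

theorem cS_shortExact : (cS S).ShortExact :=
  shortExact_of_splitting _ (cσ S)

theorem isKFlat_cyl : ModSite.IsKFlat (cyl S) :=
  isKFlat_middle (S := ShortComplex.mk (biprod.inl : P₀ S.X₂ ⟶ cyl S) biprod.snd biprod.inl_snd)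
    (fun L _ => shortExact_tens
      (fun n => (ShortComplex.Splitting.ofHasBinaryBiproduct _ _).map
        (HomologicalComplex.eval (Mod O) (ComplexShape.up ℤ) n)) L)
    (isKFlat_res _) (isKFlat_mappingCone _ (isKFlat_res _) (isKFlat_res _))

theorem isKFlat_coker : ModSite.IsKFlat (cS S).X₃ :=
  isKFlat_right (fun L _ => shortExact_tens (cσ S) L) (isKFlat_res _) (isKFlat_cyl S)

theorem quasiIso_fst : QuasiIso (biprod.fst : cyl S ⟶ P₀ S.X₂) := by
  rw [quasiIso_iff]
  intro n
  rw [quasiIsoAt_iff_isIso_homologyMap]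
  refine ⟨HomologicalComplex.homologyMap biprod.inl n, ?_, ?_⟩
  · have h0 : HomologicalComplex.homologyMap (biprod.snd ≫ biprod.inr : cyl S ⟶ cyl S) n = 0 := by
      rw [HomologicalComplex.homologyMap_comp]
      have hz : IsZero ((CochainComplex.mappingCone (𝟙 (P₀ S.X₁))).homology n) := by
        rw [IsZero.iff_id_eq_zero, ← HomologicalComplex.homologyMap_id,
          (CochainComplex.mappingCone.homotopyToZeroOfId (P₀ S.X₁)).homologyMap_eq n,
          HomologicalComplex.homologyMap_zero]
      rw [hz.eq_of_tgt (HomologicalComplex.homologyMap (biprod.snd : cyl S ⟶ _) n) 0, zero_comp]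
    rw [← HomologicalComplex.homologyMap_comp, ← HomologicalComplex.homologyMap_id (K := cyl S)]
    conv_rhs => rw [← biprod.total, HomologicalComplex.homologyMap_add, h0, add_zero]
  · rw [← HomologicalComplex.homologyMap_comp, biprod.inl_fst, HomologicalComplex.homologyMap_id]

instance additive_G (p : ℤ) : (G E p).Additive := additive E p

/-- The triangle isomorphism. -/
def triIso (hS : S.ShortExact) :
    DerivedCategory.triangleOfSES (cS_shortExact S) ≅ hS.singleTriangle :=
  have := quasiIso_fst S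
  have : IsIso (DerivedCategory.Q.map (biprod.fst : cyl S ⟶ P₀ S.X₂)) :=
    (DerivedCategory.isIso_Q_map_iff_quasiIso _ _).2 (quasiIso_fst S)
  isoTriangleOfIso₁₂ _ _ (DerivedCategory.triangleOfSES_distinguished (cS_shortExact S))
    hS.singleTriangle_distinguished (η S.X₁)
    (@asIso _ _ _ _ (DerivedCategory.Q.map (biprod.fst : cyl S ⟶ P₀ S.X₂)) this ≪≫ η S.X₂) (by
      change DerivedCategory.Q.map (cf S) ≫ DerivedCategory.Q.map biprod.fst ≫ (η S.X₂).hom =
        (η S.X₁).hom ≫ (DerivedCategory.singleFunctor (Mod O) 0).map S.f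
      rw [← Category.assoc, ← Functor.map_comp, η_natural, cf, biprod.lift_fst])

theorem exact_and_iff (hS : S.ShortExact) (p q : ℤ) (hpq : p + 1 = q) :
    (S.map (G E p)).Exact ∧ (Epi ((G E p).map S.g) ↔ Mono ((G E q).map S.f)) := by
  let φ := triIso S hS
  let e₁ : DerivedCategory.Q.obj (cS S).X₁ ≅ (DerivedCategory.singleFunctor (Mod O) 0).obj S.X₁ :=
    Triangle.π₁.mapIso φ
  let e₂ : DerivedCategory.Q.obj (cS S).X₂ ≅ (DerivedCategory.singleFunctor (Mod O) 0).obj S.X₂ :=
    Triangle.π₂.mapIso φ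
  let e₃ : DerivedCategory.Q.obj (cS S).X₃ ≅ (DerivedCategory.singleFunctor (Mod O) 0).obj S.X₃ :=
    Triangle.π₃.mapIso φ
  have w₁ : e₁.hom ≫ (DerivedCategory.singleFunctor (Mod O) 0).map S.f =
      DerivedCategory.Q.map (cS S).f ≫ e₂.hom := φ.hom.comm₁.symm
  have w₂ : e₂.hom ≫ (DerivedCategory.singleFunctor (Mod O) 0).map S.g =
      DerivedCategory.Q.map (cS S).g ≫ e₃.hom := φ.hom.comm₂.symm
  have h₁ : ModSite.IsKFlat (cS S).X₁ := isKFlat_res _
  have h₂ : ModSite.IsKFlat (cS S).X₂ := isKFlat_cyl S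
  have h₃ := isKFlat_coker S
  have nf := fun n => τ_natural E h₁ h₂ e₁ e₂ (cS S).f S.f w₁ n
  have ng := fun n => τ_natural E h₂ h₃ e₂ e₃ (cS S).g S.g w₂ n
  have hT : ((cS S).map (tE E)).ShortExact := shortExact_tens_flip (cσ S) E
  refine ⟨(ShortComplex.exact_iff_of_iso (ShortComplex.isoMk (τ E h₁ e₁ p) (τ E h₂ e₂ p) (τ E h₃ e₃ p)
    (nf p).symm (ng p).symm)).2 (hT.homology_exact₂ p), ?_⟩
  have hg : Epi ((G E p).map S.g) ↔ Epi (HomologicalComplex.homologyMap ((tE E).map (cS S).g) p) :=
    (MorphismProperty.epimorphisms (Mod O)).arrow_mk_iso_iff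
      (Arrow.isoMk (τ E h₂ e₂ p) (τ E h₃ e₃ p) (ng p).symm)
  have hf : Mono ((G E q).map S.f) ↔ Mono (HomologicalComplex.homologyMap ((tE E).map (cS S).f) q) :=
    (MorphismProperty.monomorphisms (Mod O)).arrow_mk_iso_iff
      (Arrow.isoMk (τ E h₁ e₁ q) (τ E h₂ e₂ q) (nf q).symm)
  exact hg.trans (((hT.homology_exact₃ p q hpq).epi_f_iff.trans
    (hT.homology_exact₁ p q hpq).mono_g_iff.symm).trans hf.symm)

theorem rightExact_iff_leftExact (p : ℤ) :
    PreservesFiniteColimits (G E p) ↔ PreservesFiniteLimits (G E (p + 1)) := by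
  rw [Functor.preservesFiniteColimits_iff_forall_exact_map_and_epi,
    Functor.preservesFiniteLimits_iff_forall_exact_map_and_mono]
  exact forall_congr' fun S => forall_congr' fun hS =>
    ⟨fun h => ⟨(exact_and_iff E S hS (p + 1) _ rfl).1, (exact_and_iff E S hS p (p + 1) rfl).2.1 h.2⟩,
      fun h => ⟨(exact_and_iff E S hS p _ rfl).1, (exact_and_iff E S hS p (p + 1) rfl).2.2 h.2⟩⟩

end Groth.Agent.KFlatSite.TorSeq
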